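import Cfsg.Agent.H708.O8.Defs
import Cfsg.Agent.H936.List12b
import Cfsg.Agent.H936.Reix
import Cfsg.Agent.H264.FKS.Res
import Cfsg.Agent.H105.O8.Cross
import Cfsg.Agent.H937.G24.Row
import Cfsg.Agent.H4.JT.DegOdd
import Cfsg.Agent.H359.OEightE
import Cfsg.Agent.H385.Otp.Str
import Cfsg.Agent.H788.Der.ThreeOrd

/-!
# COV-O8+ (S2499): `small_three`, the residual subgroups of `PΩ₈⁺(3)` (helper304)
-/

set_option autoImplicit false
set_option linter.unusedSectionVars false

namespace Cfsg.Agent.H304.O8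

open Cfsg Cfsg.Geo Cfsg.Agent.OrdDiv Cfsg.Agent.H436 Cfsg.Agent.H264.FKS Cfsg.Agent.H902
open Cfsg.Agent.H902.Names Cfsg.Agent.H708.O8 Cfsg.Agent.H915.LD Cfsg.Agent.H884.El Cfsg.Agent.H936.List12
open Cfsg.Agent.H912.Bd Cfsg.Agent.H912.Five Cfsg.Agent.H105.O8
open scoped MatrixGroups Matrix

universe u

/-- a multiple of the orders of the automorphism groups of the small candidates -/
def CC : ℕ := 2 ^ 40 * 3 ^ 20 * 5 * 7 ^ 4 * 11 ^ 2 * 13 * 17 * 19 * 23

theorem not_25 : ¬ 25 ∣ CC := by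
  unfold CC
  norm_num

section
variable {S : Type u} [Group S] [Finite S] [IsSimpleGroup S]

theorem aut_L' (hna : ¬ IsMulCommutative S) {n p f q : ℕ} (hp : p.Prime) (hf : 1 ≤ f) (hq : p ^ f = q) (hn : 2 ≤ n)
    (hn2 : n = 2 → 4 ≤ p ^ f) (h : IsL n q S)
    (hB : 24 * f * ((p ^ f) ^ (n * (n - 1) / 2) * ∏ i ∈ Finset.range (n - 1), ((p ^ f) ^ (i + 2) - 1)) ∣ CC) :
    Nat.card (MulAut S) ∣ CC := by
  subst hq
  obtain ⟨K, iK, iKf, hK, ⟨e⟩⟩ := h
  refine (lie_dvd hna (.psl n p f) ⟨K, iK, iKf, hK, ⟨e⟩⟩ ?_).trans hB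
  rw [Nat.card_congr e.toEquiv]
  exact psl_real hp hf hK hn hn2

theorem aut_U' (hna : ¬ IsMulCommutative S) {n p f q : ℕ} (hp : p.Prime) (hf : 1 ≤ f) (hq : p ^ f = q) (hn : 3 ≤ n)
    (hn2 : ¬ (n = 3 ∧ p ^ f = 2)) (h : IsU n q S)
    (hB : 24 * f * ((p ^ f) ^ (n * (n - 1) / 2) *
      ∏ i ∈ Finset.range (n - 1), (if Even i then (p ^ f) ^ (i + 2) - 1 else (p ^ f) ^ (i + 2) + 1)) ∣ CC) :
    Nat.card (MulAut S) ∣ CC := by
  subst hq
  obtain ⟨K, iK, iKf, hK, ⟨e⟩⟩ := h
  refine (lie_dvd hna (.psu n p f) ⟨K, iK, iKf, hK, ⟨e⟩⟩ ?_).trans hB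
  rw [Nat.card_congr e.toEquiv]
  exact psu_real hp hf hK hn hn2

theorem aut_S' (hna : ¬ IsMulCommutative S) {n p f q : ℕ} (hp : p.Prime) (hf : 1 ≤ f) (hq : p ^ f = q) (hn : 2 ≤ n)
    (hn2 : n = 2 → 3 ≤ p ^ f) (h : IsS n q S)
    (hB : 24 * f * ((p ^ f) ^ (n ^ 2) * ∏ i ∈ Finset.range n, ((p ^ f) ^ (2 * (i + 1)) - 1)) ∣ CC) :
    Nat.card (MulAut S) ∣ CC := by
  subst hq
  obtain ⟨K, iK, iKf, hK, ⟨e⟩⟩ := h
  refine (lie_dvd hna (.psp n p f) ⟨K, iK, iKf, hK, ⟨e⟩⟩ ?_).trans hB
  rw [Nat.card_congr e.toEquiv]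
  exact psp_real hp hf hK hn hn2

theorem aut_Sz' (hna : ¬ IsMulCommutative S) (h : IsSz8 S) : Nat.card (MulAut S) ∣ CC := by
  obtain ⟨K, iK, iKf, hK, ⟨e⟩⟩ := h
  have h1 := OrdDiv.table.{0}.sz K 1 le_rfl hK
  have h2 : Nat.card S = Nat.card ↥(Lie.Sz K (2 ^ (1 + 1))) := Nat.card_congr e.toEquiv
  rw [h1] at h2
  have h3 : Art.Real .Sz 2 3 (Nat.card S) := ⟨Nat.prime_two, by norm_num, ⟨rfl, by decide, le_rfl⟩, by
    rw [h2]; rfl⟩
  refine (lie_dvd hna (.sz 2 3) ⟨K, iK, iKf, 1, le_rfl, hK, rfl, ⟨e⟩⟩ h3).trans ?_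
  change 24 * 3 * ((2 ^ 3) ^ 2 * ((2 ^ 3 - 1) * ((2 ^ 3) ^ 2 + 1))) ∣ CC
  unfold CC
  norm_num

theorem fac_dvd' : Nat.factorial 9 ∣ CC := by
  have : Nat.factorial 9 = 362880 := by decide
  rw [this]
  unfold CC
  norm_num

omit [Finite S] [IsSimpleGroup S] in
theorem aut_A' {m : ℕ} (h5 : 5 ≤ m) (h9 : m ≤ 9) (e : S ≃* alternatingGroup (Fin m)) :
    Nat.card (MulAut S) ∣ CC := by
  rw [Nat.card_congr (MulAut.congr e).toEquiv]
  by_cases h6 : m = 6
  · subst h6
    rw [H824.ProdLem.card_aut_a6]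
    unfold CC
    norm_num
  · rw [← Nat.card_congr (Equiv.ofBijective _ (S2119.result m (by omega) h6)), Nat.card_eq_fintype_card,
      Fintype.card_perm, Fintype.card_fin]
    exact (Nat.factorial_dvd_factorial h9).trans fac_dvd'

theorem aut_spor' (hna : ¬ IsMulCommutative S) (hs : IsSporadicGroup S) {x : Grp × ℕ} (hx : x ∈ OrdDiv.spor)
    (hr : OrdDiv.Real x.1 S) (hB : 2 * x.2 ∣ CC) : Nat.card (MulAut S) ∣ CC := by
  have h1 := OrdDiv.table.spor S x hx hr
  have h2 : Nat.card (Cfsg.Out S) ≤ 2 := H498.SporOut.index_le_two hs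
  have h3 : 0 < Nat.card (Cfsg.Out S) := Nat.card_pos
  rw [← H934.OutB.card_out_mul S hna, h1]
  refine (Nat.mul_dvd_mul ?_ (dvd_refl _)).trans hB
  interval_cases Nat.card (Cfsg.Out S) <;> norm_num

theorem suz_card (hr : Spor.IsoSuz S) : Nat.card S = 448345497600 :=
  OrdDiv.table.spor S (.suz, 448345497600) (by simp [spor]) hr

theorem aut_SporC' (hna : ¬ IsMulCommutative S) (h : SporC S) :
    Nat.card (MulAut S) ∣ CC ∨ Spor.IsoJ2 S ∨ Spor.IsoSuz S := by
  unfold SporC at h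
  rcases h with h | h | h | h | h | h | h | h | h
  · exact Or.inl (aut_spor' hna (by unfold IsSporadicGroup; tauto) (x := (.m11, 7920)) (by simp [spor]) h (by unfold CC; norm_num))
  · exact Or.inl (aut_spor' hna (by unfold IsSporadicGroup; tauto) (x := (.m12, 95040)) (by simp [spor]) h (by unfold CC; norm_num))
  · exact Or.inl (aut_spor' hna (by unfold IsSporadicGroup; tauto) (x := (.m22, 443520)) (by simp [spor]) h (by unfold CC; norm_num))
  · exact Or.inl (aut_spor' hna (by unfold IsSporadicGroup; tauto) (x := (.m23, 10200960)) (by simp [spor]) h (by unfold CC; norm_num))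
  · exact Or.inl (aut_spor' hna (by unfold IsSporadicGroup; tauto) (x := (.m24, 244823040)) (by simp [spor]) h (by unfold CC; norm_num))
  · exact Or.inl (aut_spor' hna (by unfold IsSporadicGroup; tauto) (x := (.j1, 175560)) (by simp [spor]) h (by unfold CC; norm_num))
  · exact Or.inr (Or.inl h)
  · exact Or.inl (aut_spor' hna (by unfold IsSporadicGroup; tauto) (x := (.j3, 50232960)) (by simp [spor]) h (by unfold CC; norm_num))
  · exact Or.inr (Or.inr h)

theorem aut_L2' (hna : ¬ IsMulCommutative S) {q : ℕ} (hq : q ∈ ({7, 8, 11, 13, 17, 19, 23, 25} : Finset ℕ))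
    (hle : (q - 1) / Nat.gcd 2 (q - 1) ≤ 8) (h : IsL 2 q S) : Nat.card (MulAut S) ∣ CC := by
  simp only [Finset.mem_insert, Finset.mem_singleton] at hq
  rcases hq with rfl | rfl | rfl | rfl | rfl | rfl | rfl | rfl
  · exact aut_L' hna (p := 7) (f := 1) (by norm_num) le_rfl (by norm_num) le_rfl (fun _ => by norm_num) h
      (by unfold CC; simp only [Finset.prod_range_succ, Finset.prod_range_zero]; norm_num)
  · exact aut_L' hna (p := 2) (f := 3) (by norm_num) (by norm_num) (by norm_num) le_rfl (fun _ => by norm_num) h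
      (by unfold CC; simp only [Finset.prod_range_succ, Finset.prod_range_zero]; norm_num)
  · exact aut_L' hna (p := 11) (f := 1) (by norm_num) le_rfl (by norm_num) le_rfl (fun _ => by norm_num) h
      (by unfold CC; simp only [Finset.prod_range_succ, Finset.prod_range_zero]; norm_num)
  · exact aut_L' hna (p := 13) (f := 1) (by norm_num) le_rfl (by norm_num) le_rfl (fun _ => by norm_num) h
      (by unfold CC; simp only [Finset.prod_range_succ, Finset.prod_range_zero]; norm_num)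
  · exact aut_L' hna (p := 17) (f := 1) (by norm_num) le_rfl (by norm_num) le_rfl (fun _ => by norm_num) h
      (by unfold CC; simp only [Finset.prod_range_succ, Finset.prod_range_zero]; norm_num)
  · norm_num at hle
  · norm_num at hle
  · norm_num at hle

theorem aut_LieC' (hna : ¬ IsMulCommutative S) (h : LieC 3 8 S) : Nat.card (MulAut S) ∣ CC ∨ IsOP 4 2 S := by
  rcases h with ⟨q, hq, -, h2, h3⟩ | ⟨h, -, -⟩ | ⟨h, -, -⟩ | ⟨-, h, -⟩ | ⟨-, h, -⟩ | ⟨-, -, h⟩ | ⟨-, h, -⟩ |
    ⟨-, -, h⟩ | ⟨-, -, h⟩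
  · exact Or.inl (aut_L2' hna hq h2 h3)
  · omega
  · omega
  · omega
  · omega
  · exact Or.inl (aut_U' hna (p := 2) (f := 1) (by norm_num) le_rfl (by norm_num) (by norm_num) (by norm_num) h
      (by unfold CC; simp only [show 5 - 1 = 4 from rfl, Finset.prod_range_succ, Finset.prod_range_zero]; norm_num [Nat.even_iff]))
  · omega
  · exact Or.inl (aut_S' hna (p := 2) (f := 1) (by norm_num) le_rfl (by norm_num) (by norm_num) (by norm_num) h
      (by unfold CC; simp only [Finset.prod_range_succ, Finset.prod_range_zero]; norm_num))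
  · exact Or.inr h

theorem aut_MultD' (hna : ¬ IsMulCommutative S) (h : MultD 3 8 S) :
    Nat.card (MulAut S) ∣ CC ∨ IsOP 4 2 S ∨ H912.Bd.IsG2 4 S := by
  rcases h with ⟨-, -, h⟩ | ⟨h, -, -⟩
  · rcases h with h | h | ⟨h, -⟩ | h | h | h
    · exact Or.inl (aut_L2' hna (q := 7) (by simp) (by norm_num) h)
    · exact Or.inl (aut_L' hna (p := 2) (f := 2) (by norm_num) (by norm_num) (by norm_num) (by norm_num) (by norm_num) h
        (by unfold CC; simp only [Finset.prod_range_succ, Finset.prod_range_zero]; norm_num))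
    · omega
    · exact Or.inl (aut_S' hna (p := 2) (f := 1) (by norm_num) le_rfl (by norm_num) (by norm_num) (by norm_num) h
        (by unfold CC; simp only [Finset.prod_range_succ, Finset.prod_range_zero]; norm_num))
    · exact Or.inr (Or.inl h)
    · exact Or.inr (Or.inr h)
  · omega

end

theorem card_two {K : Type} [Field K] [Fintype K] (hK : Fintype.card K = 2) :
    Nat.card (POmega K (quadFormPlus 4 K)) = 174182400 := by
  have hord := Cfsg.Agent.S0293.result (F := K) (q := 2) (by rw [hK]) 4 (by norm_num)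
  rw [show Nat.gcd 4 (2 ^ 4 - 1) = 1 by norm_num] at hord
  simp only [Nat.reduceSub, Finset.prod_range_succ, Finset.prod_range_zero] at hord
  norm_num at hord ⊢
  omega

/-- **The candidates in characteristic 3, degree 8, whose automorphism group has order divisible by 25.** -/
theorem cands {F : Type u} [Field F] [Finite F] [CharP F 3] [hp : Fact (Nat.Prime 3)]
    {P : Subgroup (GL (Fin 8) F)} (hC : Core P) (hk : IsKnownSimple' (Soc P)) (hL : ¬ IsLieTypeChar 3 (Soc P))
    (h25 : 25 ∣ Nat.card (MulAut (Soc P))) (hd : Nat.card (Soc P) ∣ 4952179814400) :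
    Nonempty (Soc P ≃* alternatingGroup (Fin 10)) ∨ IsOP 4 2 (Soc P) := by
  have hs : IsSimpleGroup (Soc P) := hC.simple
  have hna : ¬ IsMulCommutative (Soc P) := hC.nonabelian
  have : Finite (Soc P) := inferInstance
  have key : ¬ Nat.card (MulAut (Soc P)) ∣ CC := fun h => not_25 (h25.trans h)
  have h2 : (2 : F) ≠ 0 := by
    intro h0
    have h1 : ((2 : ℕ) : F) = 0 := by exact_mod_cast h0
    rw [CharP.cast_eq_zero_iff F 3] at h1
    norm_num at h1
  rcases list₁ (p := 3) (n := 8) (by norm_num) hC hk hL with (h | h | h | h | h) | h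
  · obtain ⟨m, h5, h14, h12, -, -, ⟨e⟩⟩ := h
    have h13 : m ≤ 11 := by
      by_contra hcon
      have := h12 (by norm_num) (by omega)
      omega
    rcases (show m ≤ 9 ∨ m = 10 ∨ m = 11 by omega) with h | rfl | rfl
    · exact absurd (aut_A' h5 h e) key
    · exact Or.inl ⟨e⟩
    · exfalso
      rw [Nat.card_congr e.toEquiv, nat_card_alternatingGroup] at hd
      revert hd
      simp only [Nat.card_eq_fintype_card, Fintype.card_fin]
      norm_num [Nat.factorial]
  · rcases aut_LieC' hna h with h | h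
    · exact absurd h key
    · exact Or.inr h
  · rcases aut_MultD' hna h with h | h | h
    · exact absurd h key
    · exact Or.inr h
    · exfalso
      have h1 := (H937.G24.row hC h 3 (by norm_num) (by rw [Fintype.card_fin]; norm_num)).1
      rw [Fintype.card_fin] at h1
      omega
  · exact absurd (aut_Sz' hna h.2.2) key
  · rcases aut_SporC' hna h with h | ⟨⟨e⟩⟩ | h
    · exact absurd h key
    · exfalso
      have h1 := (H4.JT.j2_odd hC e h2 (by rw [Fintype.card_fin]; norm_num)).1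
      rw [Fintype.card_fin] at h1
      omega
    · exfalso
      rw [suz_card h] at hd
      norm_num at hd
  · exact absurd h.1 (by norm_num)

section
variable {F : Type} [Field F] [Fintype F]

open Cfsg.Agent.H503.El.O83 in
/-- **R4: `q = 3`** -/
theorem small_three (hF : Nat.card F = 3)
    {R : Subgroup (H708.O8.T8 F)} (S : Subgroup R) [S.Normal] (_hS : IsSimpleGroup S) (_hna : ¬ IsMulCommutative S)
    (hC : Subgroup.centralizer (S : Set R) = ⊥) {P : Subgroup (GL H708.O8.I8 F)}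
    (hP : IsResidualCore (pre (quadFormPlus 4 F) R) P) (e : S ≃* Soc P) (hL : ¬ IsLieTypeChar 3 (Soc P))
    {x y : H708.O8.T8 F} (_hx : x ∈ R) (hy : y ∈ R) (_ox : orderOf x = 15 ∨ orderOf x = 20) (oy : orderOf y = 20)
    (_sep : ∀ (c : H708.O8.T8 F) (j : ℤ), c * (x ^ (orderOf x / 5)) ^ j * c⁻¹ ≠ y ^ 4) (h25 : 25 ∣ Nat.card R)
    (hk : IsKnownSimple' (Soc P)) : False := by
  have hF' : Fintype.card F = 3 := by rw [← Nat.card_eq_fintype_card, hF]
  have hc : CharP F 3 := H105.O8.charP_of (a := 1) (by norm_num) le_rfl (by rw [hF, pow_one])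
  have hp : Fact (Nat.Prime 3) := ⟨by norm_num⟩
  let ix : H708.O8.I8 ≃ Fin 8 := finSumFinEquiv
  have hC' := H936.Reix.core_rx ix (core_of_residual hP)
  have e' := H936.Reix.socEquiv ix P
  have hcard : Nat.card (H708.O8.T8 F) = 4952179814400 := by
    obtain ⟨E⟩ := H503.El.equiv_o83 F hF'
    rw [← Nat.card_congr E.toEquiv]
    exact card_t8
  have hRd : Nat.card R ∣ 4952179814400 := by
    rw [← hcard]
    exact Subgroup.card_subgroup_dvd_card R
  have hSd : Nat.card S ∣ 4952179814400 := (Subgroup.card_subgroup_dvd_card S).trans hRd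
  have h25' : 25 ∣ Nat.card (MulAut S) := h25.trans (dvd_aut S hC)
  rcases cands hC' (OddHalf.Known.isKnownSimple'_congr e' (core_of_residual hP).nonabelian hk)
    (fun h => hL (OddHalf.Known.isLieTypeChar_congr e'.symm h))
    (by rw [← Nat.card_congr (MulAut.congr (e.trans e')).toEquiv]; exact h25')
    (by rw [← Nat.card_congr (e.trans e').toEquiv]; exact hSd) with ⟨⟨f⟩⟩ | ⟨K, iK, iKf, hK, ⟨f⟩⟩
  · obtain ⟨g, hg⟩ := H788.Der.C.exists_21
    obtain ⟨E⟩ := H503.El.equiv_o83 F hF'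
    let s : S := (e.trans (e'.trans f)).symm g
    have hs : orderOf (E.symm ((s : R) : H708.O8.T8 F)) = 21 := by
      rw [MulEquiv.orderOf_eq, Subgroup.orderOf_coe, Subgroup.orderOf_coe, MulEquiv.orderOf_eq, hg]
    exact not_21 _ hs
  · obtain ⟨f'⟩ := H359.OEight.exists_equiv hK
    have hcS : Nat.card S = 174182400 := by
      rw [Nat.card_congr (e.trans (e'.trans f)).toEquiv]
      exact card_two hK
    have hyS : (⟨y, hy⟩ : R) ∈ S := by
      apply H385.Otp.coprime_mem
      rw [Subgroup.orderOf_mk, oy]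
      have h1 := S.card_mul_index
      rw [hcS] at h1
      obtain ⟨k, hk⟩ := hRd
      rw [← h1] at hk
      have h2 : S.index * k = 28431 := by
        have h3 : 174182400 * (S.index * k) = 174182400 * 28431 := by
          rw [← mul_assoc, ← hk]
        omega
      have h3 : S.index ∣ 28431 := ⟨k, h2.symm⟩
      exact Nat.Coprime.coprime_dvd_right h3 (by norm_num)
    have h1 := H359.OEight.sp ((e.trans (e'.trans (f.trans f'))) ⟨_, hyS⟩)
    rw [MulEquiv.orderOf_eq, Subgroup.orderOf_mk, Subgroup.orderOf_mk, oy] at h1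
    revert h1
    decide

end

end Cfsg.Agent.H304.O8
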